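import Cfsg.Agent.H264.QS.SuzData
import Cfsg.Agent.H763.Ore.SuzFin
import Cfsg.Agent.H58.SuzRep
import Cfsg.Agent.H6.QO.Frame
import Cfsg.Agent.S2048

/-!
# The row `Suz` of S2491 / S2492: every element of the covers of `Suz` is a commutator (helper264)
-/

set_option autoImplicit false
set_option maxRecDepth 100000
set_option exponentiation.threshold 5000

namespace Cfsg.Agent.H264.QS.Suz6

open Subgroup Cfsg.Spor Cfsg.Agent.H51.Mult Cfsg.Agent.H6.QO Cfsg.Agent.H777.Ore Cfsg.Agent.H264.QS.SuzData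
open Cfsg.Agent.Lib.PackMat (okG checkEq checkScalar)
open Cfsg.Agent.H58.SuzRep (M12 C12 Y q σ σ_q σ_on q_surj q_ker z z_mem q_z orderOf_z coe_z coe_z_pow center_of_q u s coe_s
  mk prod_scalar comm_of pr p)
open Cfsg.Agent.SporadicRecognition.SuzOrder (el)
open Cfsg.Agent.OddHalf.Table.SuzRep (ψ ψ_injective)
open Cfsg.Agent.H763.Ore.SuzModel (A N A_conj)
open Cfsg.Agent.H763.Ore.SuzFourC (wA wB)
open scoped commutatorElement

instance finite_suz : Finite Suz := Nat.finite_of_card_ne_zero (by rw [S1694.result.2]; norm_num)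

/-- the kernel of the cover consists of the six scalars -/
theorem ker_le : q.ker ≤ zpowers z := by
  intro y hy
  have h1 := center_of_q (MonoidHom.mem_ker.1 hy)
  obtain ⟨r, hr⟩ := Matrix.GeneralLinearGroup.mem_center_iff_val_mem_range_scalar.1 h1
  have hr' : ((y : M12ˣ) : M12) = r • (1 : M12) := by
    rw [← hr, Matrix.scalar_apply, Matrix.smul_one_eq_diagonal]
  have h2 : ∃ n : ℕ, r = 3 ^ n := by
    have h0 : r ≠ 0 := by
      rintro rfl
      rw [zero_smul] at hr'
      have h3 := (y : M12ˣ).mul_inv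
      rw [hr', zero_mul] at h3
      have h4 := congrFun (congrFun h3 0) 0
      rw [Matrix.one_apply_eq, Matrix.zero_apply] at h4
      exact absurd h4 (by decide)
    revert h0
    clear hr' hr
    revert r
    intro r h0
    have : ∀ r : ZMod 7, r ≠ 0 → r = 3 ^ 0 ∨ r = 3 ^ 1 ∨ r = 3 ^ 2 ∨ r = 3 ^ 3 ∨ r = 3 ^ 4 ∨ r = 3 ^ 5 := by decide
    rcases this r h0 with h | h | h | h | h | h
    exacts [⟨_, h⟩, ⟨_, h⟩, ⟨_, h⟩, ⟨_, h⟩, ⟨_, h⟩, ⟨_, h⟩]
  obtain ⟨n, rfl⟩ := h2
  rw [mem_zpowers_iff]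
  refine ⟨n, ?_⟩
  rw [zpow_natCast]
  apply Subtype.ext
  apply Units.ext
  rw [coe_z_pow, hr']

theorem ker_eq : q.ker = zpowers z := by
  refine le_antisymm ker_le ?_
  rw [zpowers_le]
  exact MonoidHom.mem_ker.2 q_z

theorem card_ker : Nat.card q.ker = 6 := by
  rw [ker_eq, Nat.card_zpowers, orderOf_z]

theorem perf_suz : commutator Suz = ⊤ := H51.Tools.perfect_of_simple S1694.result.1 (by rw [S1694.result.2]; norm_num)

/-- **the sixfold cover** -/
theorem pce_q : PCE q where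
  surj := q_surj
  cen := q_ker
  perf := by
    rw [eq_top_iff]
    intro g _
    have h1 : q g ∈ (commutator Y).map q := by
      rw [commutator_def, Subgroup.map_commutator, Subgroup.map_top_of_surjective q q_surj, ← commutator_def, perf_suz]
      exact mem_top _
    obtain ⟨c, hc, hcg⟩ := h1
    have h2 : c⁻¹ * g ∈ q.ker := by rw [MonoidHom.mem_ker, map_mul, map_inv, hcg, inv_mul_cancel]
    have h3 := mul_mem hc ((zpowers_le.2 z_mem) (ker_le h2))
    rwa [mul_inv_cancel_left] at h3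

/-! ### the element `x` -/

theorem q_s (x : Suz.Gen) : q (s x) = PresentedGroup.of x := by
  apply Cfsg.Agent.H58.SuzRep.σ_injective
  rw [σ_q]
  exact (σ_on x).symm

theorem q_word (w : List Suz.Gen) : q (w.map s).prod = el w := by
  rw [map_list_prod, List.map_map, el]
  congr 1
  apply List.map_congr_left
  intro x _
  exact q_s x

/-- packed scalar matrix -/
def s3 : ℕ := H58.SuzRep.s6 / 2

theorem ok3 : okG C12 s3 = true := by decide +kernel

theorem chk3 : checkScalar C12 [s3] 3 0 12 = true := by decide +kernel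

theorem mk3 : mk s3 = (3 : ZMod 7) • (1 : M12) := by
  have h := prod_scalar (c := 3) (by decide) (w := [s3])
    (fun g hg => by rw [List.mem_singleton] at hg; rw [hg]; exact ok3) chk3
  simp only [List.map_cons, List.map_nil, List.prod_cons, List.prod_nil, mul_one] at h
  exact h

theorem chkX : checkEq C12 (H58.SuzRep.W (wC ++ wX)) (s3 :: H58.SuzRep.W (wX ++ wC)) 0 12 = true := by decide +kernel

/-- the lift of `x` is conjugate to its multiple by the generator of the kernel -/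
theorem conj_z : IsConj (wX.map s).prod ((wX.map s).prod * z) := by
  have h1 := comm_of ok3 mk3 chkX
  have h2 : ⁅(wC.map s).prod, (wX.map s).prod⁆ = z := by
    apply Subtype.ext
    apply Units.ext
    rw [coe_z]
    refine Eq.trans ?_ h1
    rw [← coe_s, ← coe_s]
    rfl
  have h3 : (wX.map s).prod * z = z * (wX.map s).prod :=
    (mem_center_iff.1 (q_ker (MonoidHom.mem_ker.2 q_z)) _)
  rw [isConj_iff]
  refine ⟨(wC.map s).prod, ?_⟩
  rw [h3, ← h2, commutatorElement_def]
  group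

/-! ### automorphisms -/

theorem exists_aut {b : Equiv.Perm (Fin 1782)} (hb : b ∈ A) : ∃ β : Suz ≃* Suz, ∀ t, ψ (β t) = b * ψ t * b⁻¹ := by
  have key : ∀ {b : Equiv.Perm (Fin 1782)}, b ∈ A → ∀ t : Suz, ∃ t' : Suz, ψ t' = b * ψ t * b⁻¹ := fun hb t =>
    A_conj hb (⟨t, rfl⟩ : ψ t ∈ N)
  choose f hf using key hb
  choose g hg using key (A.inv_mem hb)
  refine ⟨⟨⟨f, g, fun t => ψ_injective ?_, fun t => ψ_injective ?_⟩, fun x y => ψ_injective ?_⟩, hf⟩
  · rw [hg, hf]
    group
  · rw [hf, hg]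
    group
  · change ψ (f (x * y)) = ψ (f x * f y)
    rw [map_mul, hf, hf, hf, map_mul]
    group

/-! ### the theorem -/

/-- in every perfect central extension of `Suz` -/
theorem isC_of_rep {L : Type} [Group L] [Finite L] {π : L →* Suz} (hπ : PCE π) {g : L} (i : Fin 37)
    (hg : π g = el (wA i) * el (wB i) * (el (wA i))⁻¹ * (el (wB i))⁻¹) : IsC g := by
  have : Finite Y := inferInstance
  obtain ⟨θ, hθ, hθπ⟩ := H95.StemCover.exists_cover perf_suz (A := Multiplicative (ZMod 6)) S2048.result q pce_q.toStem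
    (by rw [card_ker]; simp) π hπ.toStem
  obtain ⟨t, ht⟩ := hπ.surj (el (wH i))
  have hconj : IsConj (θ (wX.map s).prod) (θ (wX.map s).prod * θ z) := by
    rw [← map_mul]
    exact θ.map_isConj conj_z
  have hx : π (θ (wX.map s).prod) = el wX := by rw [hθπ, q_word]
  have h1 : π (t * g * t⁻¹) = π (θ (wX.map s).prod) * el (wK i) * (π (θ (wX.map s).prod))⁻¹ * (el (wK i))⁻¹ := by
    rw [map_mul, map_mul, map_inv, ht, hg, hx]
    exact rel i
  have h2 : IsC (t * g * t⁻¹) := by
    refine isC_of_pair_zpowers hπ.surj hπ.cen (z := θ z) ?_ ?_ h1 hconj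
    · intro ζ hζ
      obtain ⟨y, rfl⟩ := hθ ζ
      rw [hθπ] at hζ
      obtain ⟨n, hn⟩ := mem_zpowers_iff.1 (ker_le (MonoidHom.mem_ker.2 hζ))
      rw [← hn, map_zpow]
      exact zpow_mem (mem_zpowers _) n
    · rw [hθπ, q_z]
  exact h2.of_isConj (isConj_iff.2 ⟨t, rfl⟩).symm

theorem rowA_Suz : RowA Suz := by
  intro L _ _ π hπ g
  obtain ⟨i, b, hb, h⟩ := H763.Ore.SuzFin.cover (π g)
  rw [H763.Ore.SuzWord.nA_eq, H763.Ore.SuzWord.nB_eq] at h
  obtain ⟨β, hβ⟩ := exists_aut (A.inv_mem hb)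
  refine isC_of_rep (hπ.congr β) i ?_
  apply ψ_injective
  change ψ (β (π g)) = _
  rw [hβ, h]
  group

/-- **the row `Suz` of S2491, S2492** -/
theorem ra_suz {S : Type*} [Group S] (h : Spor.IsoSuz S) : RowA S := by
  obtain ⟨e⟩ := h
  exact rowA_Suz.congr e.symm

end Cfsg.Agent.H264.QS.Suz6
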