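import Cfsg.Agent.H763.Ore.SuzFourC

/-!
# The sixfold cover of the Suzuki group (S2491, S2492): the words (helper264)

Every one of the 37 representatives of `Suz` (up to `Suz : 2`) is conjugate to a commutator `[x, k]` with the same `x = g b d`.
-/

set_option autoImplicit false
set_option maxRecDepth 100000
set_option exponentiation.threshold 5000

namespace Cfsg.Agent.H264.QS.SuzData

open Cfsg.Spor Cfsg.Agent.H763.Ore.SuzFour Cfsg.Agent.H763.Ore.SuzFourC
open Cfsg.Agent.SporadicRecognition.SuzOrder (el)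
open Cfsg.Agent.SuzThree.Basic (el_append el_reverse t5 eq_one_of_t5)
open Cfsg.Agent.SporadicRecognition.SuzPhi (wd)

/-- the first member of all pairs -/
def wX : List Suz.Gen := [.g, .b, .d]

/-- the second members -/
def wK : ℕ → List Suz.Gen
  | 0 => [.g, .f, .b, .a]
  | 1 => []
  | 2 => [.c, .b, .a, .b, .g, .e, .c, .d, .b, .c, .b]
  | 3 => [.a, .b, .g, .f, .b, .g, .c, .d, .c, .a, .b, .f]
  | 4 => [.f, .c, .d, .c, .b]
  | 5 => [.e, .d, .b, .c, .b, .a, .b, .g, .a, .b, .f, .d, .c, .d, .e]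
  | 6 => [.b]
  | 7 => [.b, .c, .d, .e]
  | 8 => [.c, .a, .b, .f, .e, .d, .c, .a]
  | 9 => [.b, .f, .e, .c]
  | 10 => [.e, .d, .c, .b, .a, .b, .g, .d, .c, .b, .f]
  | 11 => [.f, .e, .c, .d, .a, .b, .c]
  | 12 => [.c, .d, .e]
  | 13 => [.e, .a]
  | 14 => [.a]
  | 15 => [.e, .c, .b, .a]
  | 16 => [.f, .b, .g, .d, .e, .c, .d, .c, .b, .a]
  | 17 => [.f, .c, .d, .b, .c, .b]
  | 18 => [.e, .b, .c]
  | 19 => [.c, .b, .f, .b, .g, .c, .b, .f, .e, .c, .d, .c]
  | 20 => [.c, .d, .c, .b, .f, .d, .c, .b]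
  | 21 => [.e, .b, .c, .d, .c, .b, .f, .d, .c]
  | 22 => [.g, .d, .c, .b, .f, .e, .b, .c, .d, .b, .c]
  | 23 => [.c, .b, .f, .g, .b, .f, .c, .d, .e, .d, .b, .c, .a, .b, .a]
  | 24 => [.g, .d, .c, .b, .f, .d, .b, .c, .b]
  | 25 => [.c, .d, .e, .b, .a]
  | 26 => [.f, .g, .b, .c, .b, .a, .b, .f, .c, .d, .c, .a]
  | 27 => [.f, .g, .e, .c, .d, .b, .c, .d, .a, .b, .c, .a, .b, .a]
  | 28 => [.g, .f, .e, .b, .a]
  | 29 => [.b, .f, .e, .d, .b, .c, .d, .e, .b]
  | 30 => [.g, .c, .b, .f, .e, .d, .b, .c, .b]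
  | 31 => [.e, .d, .c, .b, .g, .f, .b, .c, .d, .c, .b, .f, .g, .b, .c]
  | 32 => [.c, .b, .f, .b, .c, .d, .c, .b]
  | 33 => [.f, .e, .d, .c, .d, .e, .a]
  | 34 => [.e, .c, .a]
  | 35 => [.a, .b, .c, .d, .c, .a, .b, .a]
  | 36 => [.e]
  | _ => []

/-- the conjugating words -/
def wH : ℕ → List Suz.Gen
  | 0 => [.a, .b]
  | 1 => []
  | 2 => [.a, .b, .g, .d, .b]
  | 3 => [.g, .c, .b, .f]
  | 4 => [.g, .c, .b]
  | 5 => [.e, .d, .c, .b, .f, .e]
  | 6 => [.c, .b, .g]
  | 7 => [.e, .d]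
  | 8 => [.g, .b, .f, .g, .d, .e, .b, .c, .d, .b]
  | 9 => [.b, .f]
  | 10 => [.f, .a, .b, .a, .b, .g]
  | 11 => [.e, .d, .c, .d, .c, .b, .f, .g, .e, .c, .d]
  | 12 => [.g, .c, .b]
  | 13 => [.g, .d, .a]
  | 14 => [.g]
  | 15 => [.g, .d, .b]
  | 16 => [.b, .g, .b, .f, .b, .a]
  | 17 => [.c, .b, .f, .g, .d]
  | 18 => [.d]
  | 19 => [.b, .f, .g, .d, .e, .c, .b]
  | 20 => [.g, .b, .f, .b, .g]
  | 21 => [.b, .f, .b, .g, .d]
  | 22 => [.e, .d, .c, .b, .f, .d, .b, .a, .b]
  | 23 => [.e, .d, .b, .c, .a, .b, .g, .f, .b, .c, .d, .a]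
  | 24 => [.a, .b, .f, .c]
  | 25 => [.g, .b, .a, .b, .g, .d, .e, .d, .b]
  | 26 => [.g, .c, .b]
  | 27 => [.b, .a]
  | 28 => [.a, .b, .c, .d, .c]
  | 29 => [.e, .d, .b]
  | 30 => [.f, .e, .d]
  | 31 => []
  | 32 => [.f, .b, .g, .f, .d]
  | 33 => [.g, .e, .d]
  | 34 => [.g]
  | 35 => [.b, .g, .a, .b]
  | 36 => []
  | _ => []

/-- the certificate -/
noncomputable def cert (A B H K : List Suz.Gen) : Bool :=
  t5 (wd (H ++ (A ++ (B ++ (A.reverse ++ (B.reverse ++ (H.reverse ++ (K ++ (wX ++ (K.reverse ++ wX.reverse))))))))))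

theorem rel_of {A B H K : List Suz.Gen} (h : cert A B H K = true) :
    el H * (el A * el B * (el A)⁻¹ * (el B)⁻¹) * (el H)⁻¹ = el wX * el K * (el wX)⁻¹ * (el K)⁻¹ := by
  have h6 := eq_one_of_t5 (Cfsg.Agent.SuzThree.Basic.Rep.el _) h
  rw [el_append, el_append, el_append, el_append, el_append, el_append, el_append, el_append, el_append, el_reverse,
    el_reverse, el_reverse, el_reverse, el_reverse] at h6
  calc el H * (el A * el B * (el A)⁻¹ * (el B)⁻¹) * (el H)⁻¹
      = (el H * (el A * (el B * ((el A)⁻¹ * ((el B)⁻¹ * ((el H)⁻¹ * (el K * (el wX * ((el K)⁻¹ * (el wX)⁻¹)))))))))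
        * (el wX * el K * (el wX)⁻¹ * (el K)⁻¹) := by group
    _ = el wX * el K * (el wX)⁻¹ * (el K)⁻¹ := by rw [h6, one_mul]

theorem c0 : cert (wA 0) (wB 0) (wH 0) (wK 0) = true := by decide +kernel
theorem c1 : cert (wA 1) (wB 1) (wH 1) (wK 1) = true := by decide +kernel
theorem c2 : cert (wA 2) (wB 2) (wH 2) (wK 2) = true := by decide +kernel
theorem c3 : cert (wA 3) (wB 3) (wH 3) (wK 3) = true := by decide +kernel
theorem c4 : cert (wA 4) (wB 4) (wH 4) (wK 4) = true := by decide +kernel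
theorem c5 : cert (wA 5) (wB 5) (wH 5) (wK 5) = true := by decide +kernel
theorem c6 : cert (wA 6) (wB 6) (wH 6) (wK 6) = true := by decide +kernel
theorem c7 : cert (wA 7) (wB 7) (wH 7) (wK 7) = true := by decide +kernel
theorem c8 : cert (wA 8) (wB 8) (wH 8) (wK 8) = true := by decide +kernel
theorem c9 : cert (wA 9) (wB 9) (wH 9) (wK 9) = true := by decide +kernel
theorem c10 : cert (wA 10) (wB 10) (wH 10) (wK 10) = true := by decide +kernel
theorem c11 : cert (wA 11) (wB 11) (wH 11) (wK 11) = true := by decide +kernel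
theorem c12 : cert (wA 12) (wB 12) (wH 12) (wK 12) = true := by decide +kernel
theorem c13 : cert (wA 13) (wB 13) (wH 13) (wK 13) = true := by decide +kernel
theorem c14 : cert (wA 14) (wB 14) (wH 14) (wK 14) = true := by decide +kernel
theorem c15 : cert (wA 15) (wB 15) (wH 15) (wK 15) = true := by decide +kernel
theorem c16 : cert (wA 16) (wB 16) (wH 16) (wK 16) = true := by decide +kernel
theorem c17 : cert (wA 17) (wB 17) (wH 17) (wK 17) = true := by decide +kernel
theorem c18 : cert (wA 18) (wB 18) (wH 18) (wK 18) = true := by decide +kernel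
theorem c19 : cert (wA 19) (wB 19) (wH 19) (wK 19) = true := by decide +kernel
theorem c20 : cert (wA 20) (wB 20) (wH 20) (wK 20) = true := by decide +kernel
theorem c21 : cert (wA 21) (wB 21) (wH 21) (wK 21) = true := by decide +kernel
theorem c22 : cert (wA 22) (wB 22) (wH 22) (wK 22) = true := by decide +kernel
theorem c23 : cert (wA 23) (wB 23) (wH 23) (wK 23) = true := by decide +kernel
theorem c24 : cert (wA 24) (wB 24) (wH 24) (wK 24) = true := by decide +kernel
theorem c25 : cert (wA 25) (wB 25) (wH 25) (wK 25) = true := by decide +kernel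
theorem c26 : cert (wA 26) (wB 26) (wH 26) (wK 26) = true := by decide +kernel
theorem c27 : cert (wA 27) (wB 27) (wH 27) (wK 27) = true := by decide +kernel
theorem c28 : cert (wA 28) (wB 28) (wH 28) (wK 28) = true := by decide +kernel
theorem c29 : cert (wA 29) (wB 29) (wH 29) (wK 29) = true := by decide +kernel
theorem c30 : cert (wA 30) (wB 30) (wH 30) (wK 30) = true := by decide +kernel
theorem c31 : cert (wA 31) (wB 31) (wH 31) (wK 31) = true := by decide +kernel
theorem c32 : cert (wA 32) (wB 32) (wH 32) (wK 32) = true := by decide +kernel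
theorem c33 : cert (wA 33) (wB 33) (wH 33) (wK 33) = true := by decide +kernel
theorem c34 : cert (wA 34) (wB 34) (wH 34) (wK 34) = true := by decide +kernel
theorem c35 : cert (wA 35) (wB 35) (wH 35) (wK 35) = true := by decide +kernel
theorem c36 : cert (wA 36) (wB 36) (wH 36) (wK 36) = true := by decide +kernel

/-- **the representatives** -/
theorem rel (i : Fin 37) :
    el (wH i) * (el (wA i) * el (wB i) * (el (wA i))⁻¹ * (el (wB i))⁻¹) * (el (wH i))⁻¹ =
      el wX * el (wK i) * (el wX)⁻¹ * (el (wK i))⁻¹ := by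
  fin_cases i
  · exact rel_of c0
  · exact rel_of c1
  · exact rel_of c2
  · exact rel_of c3
  · exact rel_of c4
  · exact rel_of c5
  · exact rel_of c6
  · exact rel_of c7
  · exact rel_of c8
  · exact rel_of c9
  · exact rel_of c10
  · exact rel_of c11
  · exact rel_of c12
  · exact rel_of c13
  · exact rel_of c14
  · exact rel_of c15
  · exact rel_of c16
  · exact rel_of c17
  · exact rel_of c18
  · exact rel_of c19
  · exact rel_of c20
  · exact rel_of c21
  · exact rel_of c22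
  · exact rel_of c23
  · exact rel_of c24
  · exact rel_of c25
  · exact rel_of c26
  · exact rel_of c27
  · exact rel_of c28
  · exact rel_of c29
  · exact rel_of c30
  · exact rel_of c31
  · exact rel_of c32
  · exact rel_of c33
  · exact rel_of c34
  · exact rel_of c35
  · exact rel_of c36

/-- a word which multiplies the lift of `x` by a scalar of order six -/
def wC : List Suz.Gen := [.a, .b, .a, .e, .f, .b, .a, .c, .b, .g, .f, .b, .c, .d, .c, .b, .f, .g, .e, .b, .c, .b]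

end Cfsg.Agent.H264.QS.SuzData
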